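import Mathlib.RingTheory.Unramified.Finite
import Mathlib.RingTheory.Etale.Basic
import Mathlib.RingTheory.Ideal.Quotient.Operations
import Mathlib.RingTheory.TensorProduct.Maps

/-! Etale neighbourhoods of pairs. -/

universe u

open TensorProduct

namespace Groth.Agent.EtNbhdLib

variable {A : Type u} [CommRing A] (I : Ideal A) {B : Type u} [CommRing B] [Algebra A B]

theorem bijective_quotientMap (φ : B →ₐ[A] A ⧸ I)
    (hs : ∀ b : B, ∃ a : A, b - algebraMap A B a ∈ I.map (algebraMap A B)) :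
    Function.Bijective (Ideal.quotientMap (I.map (algebraMap A B)) (algebraMap A B) Ideal.le_comap_map) := by
  constructor
  · rw [injective_iff_map_eq_zero]
    intro a ha
    obtain ⟨a, rfl⟩ := Ideal.Quotient.mk_surjective a
    rw [Ideal.quotientMap_mk, Ideal.Quotient.eq_zero_iff_mem] at ha
    have hle : I.map (algebraMap A B) ≤ RingHom.ker φ := Ideal.map_le_iff_le_comap.2 fun i hi => by
      rw [Ideal.mem_comap, RingHom.mem_ker, AlgHom.commutes, Ideal.Quotient.algebraMap_eq, Ideal.Quotient.eq_zero_iff_mem]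
      exact hi
    have h := hle ha
    rwa [RingHom.mem_ker, AlgHom.commutes] at h
  · intro b
    obtain ⟨b, rfl⟩ := Ideal.Quotient.mk_surjective b
    obtain ⟨a, ha⟩ := hs b
    refine ⟨Ideal.Quotient.mk I a, ?_⟩
    rw [Ideal.quotientMap_mk, Ideal.Quotient.eq, ← neg_sub]
    exact Submodule.neg_mem _ ha

variable {I}

theorem exists_hom (h : Function.Bijective (Ideal.quotientMap (I.map (algebraMap A B)) (algebraMap A B) Ideal.le_comap_map)) :
    ∃ φ : B →ₐ[A] A ⧸ I, (∀ b : B, ∃ a : A, b - algebraMap A B a ∈ I.map (algebraMap A B)) ∧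
      ∀ ψ : B →ₐ[A] A ⧸ I, ψ = φ := by
  have hsur : ∀ b : B, ∃ a : A, b - algebraMap A B a ∈ I.map (algebraMap A B) := fun b => by
    obtain ⟨q, hq⟩ := h.2 (Ideal.Quotient.mk _ b)
    obtain ⟨a, rfl⟩ := Ideal.Quotient.mk_surjective q
    rw [Ideal.quotientMap_mk, Ideal.Quotient.eq] at hq
    exact ⟨a, by rw [← neg_sub]; exact Submodule.neg_mem _ hq⟩
  let e := RingEquiv.ofBijective _ h
  let φ : B →ₐ[A] A ⧸ I :=
    { toRingHom := e.symm.toRingHom.comp (Ideal.Quotient.mk (I.map (algebraMap A B)))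
      commutes' := fun a => e.injective (by
        show e (e.symm (Ideal.Quotient.mk _ (algebraMap A B a))) = e (Ideal.Quotient.mk I a)
        rw [e.apply_symm_apply]
        rfl) }
  refine ⟨φ, hsur, fun ψ => AlgHom.ext fun b => ?_⟩
  obtain ⟨a, ha⟩ := hsur b
  have hle : ∀ χ : B →ₐ[A] A ⧸ I, I.map (algebraMap A B) ≤ RingHom.ker χ := fun χ =>
    Ideal.map_le_iff_le_comap.2 fun i hi => by
      rw [Ideal.mem_comap, RingHom.mem_ker, AlgHom.commutes, Ideal.Quotient.algebraMap_eq, Ideal.Quotient.eq_zero_iff_mem]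
      exact hi
  have h1 := hle ψ ha
  have h2 := hle φ ha
  rw [RingHom.mem_ker, map_sub, AlgHom.commutes, sub_eq_zero] at h1 h2
  rw [h1, h2]

end Groth.Agent.EtNbhdLib
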